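import Groth.Agent.QCTopos.CohColim
import Groth.Agent.QCTopos.Objects
import Groth.Agent.CohAcyc.Basic
import Groth.Prelude.Def_CohTop
import Mathlib.Topology.Spectral.Prespectral
import Mathlib.Topology.QuasiSeparated

/-! # Cohomology of compact opens of prespectral quasi-separated spaces commutes with filtered colimits -/

set_option autoImplicit false
set_option backward.isDefEq.respectTransparency false

universe u

open CategoryTheory CategoryTheory.Limits TopologicalSpace Opposite

namespace Groth.Agent.SpecCohLib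

open ToposFin Giraud Groth.Agent.CohAcyc Groth.Agent.QCTopos

variable {X : TopCat.{u}}

local notation "JX" => Opens.grothendieckTopology X

/-- the free sheaves of sets on compact opens -/
def compactFree (X : TopCat.{u}) : Set (Sh (Opens.grothendieckTopology X)) :=
  {K | ∃ U : Opens X, IsCompact (U : Set X) ∧ K = freeSheaf U}

lemma isQCSite_of_isCompact {U : Opens X} (hU : IsCompact (U : Set X)) :
    IsQCSite (Opens.grothendieckTopology X) U := by
  intro S hS
  choose V f hf hxV using fun x : U => hS x.1 x.2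
  obtain ⟨t, ht⟩ := hU.elim_finite_subcover (fun x : U => (V x : Set X)) (fun x => (V x).2)
    (fun x hx => Set.mem_iUnion.2 ⟨⟨x, hx⟩, hxV ⟨x, hx⟩⟩)
  let e := t.equivFin.symm
  refine ⟨t.card, fun k => V (e k).1, fun k => f (e k).1, fun k => hf _, fun x hx => ?_⟩
  obtain ⟨y, hy, hxy⟩ := Set.mem_iUnion₂.1 (ht hx)
  obtain ⟨k, hk⟩ := e.surjective ⟨y, hy⟩
  refine ⟨V (e k).1, f (e k).1, Sieve.ofArrows_mk _ _ k, ?_⟩
  rw [hk]
  exact hxy

lemma isQC_compactFree : ∀ K ∈ compactFree X, IsQC K := by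
  rintro _ ⟨U, hU, rfl⟩
  exact (isQCSite_iff U).1 (isQCSite_of_isCompact hU)

lemma isGenerating_compactFree [PrespectralSpace X] : IsGenerating (compactFree X) := by
  intro K
  let ι := Σ V : {V : Opens X // IsCompact (V : Set X)}, (freeSheaf (K := Opens.grothendieckTopology X) V.1 ⟶ K)
  refine ⟨ι, fun p => freeSheaf p.1.1, fun p => p.2, fun p => ⟨p.1.1, p.1.2, rfl⟩, fun Z a b h => ?_⟩
  obtain ⟨κ, c, π, hπ⟩ := gen_free (J := Opens.grothendieckTopology X) K
  refine (epi_desc_iff _).1 hπ Z a b fun k => ?_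
  let S : Sieve (c k) :=
    { arrows := fun W g => ∃ V : Opens X, IsCompact (V : Set X) ∧ W ≤ V ∧ V ≤ c k
      downward_closed := fun {W W'} g hg j => by
        obtain ⟨V, hV, h1, h2⟩ := hg
        exact ⟨V, hV, j.le.trans h1, h2⟩ }
  have hS : S ∈ Opens.grothendieckTopology X (c k) := fun x hx => by
    obtain ⟨Vs, ⟨hVo, hVc⟩, hxV, hVU⟩ :=
      (PrespectralSpace.isTopologicalBasis (X := X)).exists_subset_of_mem_open hx (c k).2
    exact ⟨⟨Vs, hVo⟩, homOfLE hVU, ⟨⟨Vs, hVo⟩, hVc, le_rfl, hVU⟩, hxV⟩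
  refine je_of_cov (free_cover (Opens.grothendieckTopology X) hS) Z _ _ fun w => ?_
  obtain ⟨W, g, V, hV, hWV, hVc⟩ := w
  have e : freeMap (Opens.grothendieckTopology X) g = freeMap (Opens.grothendieckTopology X) (homOfLE hWV) ≫
      freeMap (Opens.grothendieckTopology X) (homOfLE hVc) :=
    (congrArg (freeMap (Opens.grothendieckTopology X)) (Subsingleton.elim g (homOfLE hWV ≫ homOfLE hVc))).trans
      ((yoneda ⋙ presheafToSheaf (Opens.grothendieckTopology X) (Type u)).map_comp _ _)
  have e' := h ⟨⟨V, hV⟩, freeMap (Opens.grothendieckTopology X) (homOfLE hVc) ≫ π k⟩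
  show freeMap _ g ≫ π k ≫ a = freeMap _ g ≫ π k ≫ b
  rw [e, Category.assoc, Category.assoc]
  simp only [Category.assoc] at e'
  rw [e']

lemma hom_free_subsingleton (c : Opens X) (Z : Sh (Opens.grothendieckTopology X)) (a b : Z ⟶ freeSheaf c) :
    a = b := by
  haveI : Mono (yoneda.map (homOfLE (le_top : c ≤ ⊤))) := inferInstance
  haveI : Mono ((presheafToSheaf (Opens.grothendieckTopology X) (Type u)).map (yoneda.map (homOfLE (le_top : c ≤ ⊤)))) :=
    inferInstance
  have hT : IsTerminal ((presheafToSheaf (Opens.grothendieckTopology X) (Type u)).obj (yoneda.obj (⊤ : Opens X))) :=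
    ((IsTerminal.ofUnique (⊤ : Opens X)).isTerminalObj yoneda _).isTerminalObj _ _
  exact (cancel_mono ((presheafToSheaf (Opens.grothendieckTopology X) (Type u)).map
    (yoneda.map (homOfLE (le_top : c ≤ ⊤))))).1 (hT.hom_ext _ _)

lemma closedUnderPullbacks_compactFree [QuasiSeparatedSpace X] : ClosedUnderPullbacks (compactFree X) := by
  rintro _ _ _ f g ⟨U, hU, rfl⟩ ⟨V, hV, rfl⟩ ⟨W, hW, rfl⟩
  have hUV : IsCompact ((U ⊓ V : Opens X) : Set X) :=
    QuasiSeparatedSpace.inter_isCompact (U : Set X) (V : Set X) U.2 hU V.2 hV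
  have hP : IsPullback (freeMap (Opens.grothendieckTopology X) (homOfLE (inf_le_left : U ⊓ V ≤ U)))
      (freeMap (Opens.grothendieckTopology X) (homOfLE (inf_le_right : U ⊓ V ≤ V)))
      (freeMap (Opens.grothendieckTopology X) (homOfLE (le_top : U ≤ ⊤)))
      (freeMap (Opens.grothendieckTopology X) (homOfLE (le_top : V ≤ ⊤))) := by
    have h0 : IsPullback (homOfLE (inf_le_left : U ⊓ V ≤ U)) (homOfLE (inf_le_right : U ⊓ V ≤ V))
        (homOfLE (le_top : U ≤ ⊤)) (homOfLE (le_top : V ≤ ⊤)) :=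
      ⟨⟨Subsingleton.elim _ _⟩, ⟨PullbackCone.IsLimit.mk _ (fun s => homOfLE (le_inf s.fst.le s.snd.le))
        (fun _ => Subsingleton.elim _ _) (fun _ => Subsingleton.elim _ _) (fun _ _ _ _ => Subsingleton.elim _ _)⟩⟩
    exact (h0.map yoneda).map (presheafToSheaf (Opens.grothendieckTopology X) (Type u))
  refine ⟨freeSheaf (U ⊓ V), _, _, ⟨_, hUV, rfl⟩, ⟨⟨hom_free_subsingleton W _ _ _⟩,
    ⟨PullbackCone.IsLimit.mk _ (fun s => hP.lift s.fst s.snd (hom_free_subsingleton ⊤ _ _ _))
      (fun s => hP.lift_fst _ _ _) (fun s => hP.lift_snd _ _ _) (fun s m h1 h2 => hP.hom_ext ?_ ?_)⟩⟩⟩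
  · rw [hP.lift_fst]; exact h1
  · rw [hP.lift_snd]; exact h2

theorem preservesColimits_HU [PrespectralSpace X] [QuasiSeparatedSpace X] (U : Opens X)
    (hU : IsCompact (U : Set X)) (Λ : Type u) [SmallCategory Λ] [IsFiltered Λ] (q : ℕ) :
    PreservesColimitsOfShape Λ
      ((Sheaf.cohomologyPresheafFunctor.{u} (Opens.grothendieckTopology X) q).flip.obj (op U) :
        CohTop.Ab X ⥤ AddCommGrpCat.{u}) := by
  haveI := preservesColimits_member (Λ := Λ) isQC_compactFree isGenerating_compactFree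
    closedUnderPullbacks_compactFree (K := freeSheaf U) ⟨U, hU, rfl⟩ q
  let iV : (zF (Opens.grothendieckTopology X)).obj (freeSheaf U) ≅
      CohCx.freeSheaf (Opens.grothendieckTopology X) U := (Groth.Agent.CohAcyc.freeSheafIso U).symm
  let e' : (Abelian.extFunctor.{u} q).obj (op (CohCx.freeSheaf (Opens.grothendieckTopology X) U)) ≅
      (Sheaf.cohomologyPresheafFunctor.{u} (Opens.grothendieckTopology X) q).flip.obj (op U) :=
    NatIso.ofComponents (fun F => Iso.refl _) (fun g => rfl)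
  exact preservesColimitsOfShape_of_natIso ((Abelian.extFunctor.{u} q).mapIso iV.symm.op ≪≫ e')

end Groth.Agent.SpecCohLib
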